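import Cfsg.Agent.Lib.SmallOrders.ClassEquation
import Cfsg.Agent.Lib.Blocks.ItoPSolvable
import Cfsg.Agent.Lib.PLocal.SolvableSeparable
import Cfsg.Agent.Lib.CharTheory.DegreeComplement

/-!
# Groups all of whose irreducible degrees are smaller than a prime `p`
-/

namespace CfsgLib.SmallDegrees

open Cfsg CfsgLib CfsgLib.CharTheory CfsgLib.Blocks CfsgLib.SmallOrders
open scoped ComplexConjugate

set_option autoImplicit false
set_option linter.unusedVariables false
set_option linter.style.haveILetI false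
set_option linter.unusedSectionVars false

universe u

/-- All irreducible degrees are smaller than `p`. -/
def DegBelow (p : ℕ) (G : Type u) [Group G] : Prop :=
  ∀ χ : IrrCharacter G, charDegree (χ : G → ℂ) < p

theorem DegBelow.subgroup {p : ℕ} {G : Type u} [Group G] [Finite G] (h : DegBelow p G)
    (H : Subgroup G) : DegBelow p H := by
  classical
  haveI := Fintype.ofFinite G
  haveI := Fintype.ofFinite H
  intro θ
  obtain ⟨χ, hχ, hne⟩ := exists_irr_above θ.2
  have hcl : IsCharacter H (fun n : H => χ n) := isCharacter_restrict (isCharacter_of_irr hχ) H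
  choose m hm using fun ψ : IrrCharacter H => classInner_char_nat hcl (isCharacter_of_irr ψ.2)
  have h1 := congrFun (eq_sum_irr (isClassFunction_char hcl)) 1
  simp only [Finset.sum_apply, Pi.smul_apply, smul_eq_mul, hm, Subgroup.coe_one,
    ← irr_charDegree_cast, (charDegree_spec' hχ).1] at h1
  have h2 : charDegree χ = ∑ ψ : IrrCharacter H, m ψ * charDegree (ψ : H → ℂ) := by exact_mod_cast h1
  have hθ : 1 ≤ m θ := by
    rcases Nat.eq_zero_or_pos (m θ) with h0 | h0
    · exact absurd (by rw [hm θ, h0, Nat.cast_zero]) hne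
    · exact h0
  have h3 : m θ * charDegree (θ : H → ℂ) ≤ charDegree χ :=
    h2 ▸ Finset.single_le_sum (fun ψ _ => Nat.zero_le (m ψ * charDegree (ψ : H → ℂ)))
      (Finset.mem_univ θ)
  have := h ⟨χ, hχ⟩
  have h4 : charDegree (θ : H → ℂ) ≤ m θ * charDegree (θ : H → ℂ) := Nat.le_mul_of_pos_left _ hθ
  calc charDegree (θ : H → ℂ) ≤ charDegree χ := h4.trans h3
    _ < p := h ⟨χ, hχ⟩

theorem DegBelow.quotient {p : ℕ} {G : Type u} [Group G] [Finite G] (h : DegBelow p G)
    (N : Subgroup G) [N.Normal] : DegBelow p (G ⧸ N) := fun θ =>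
  h ⟨fun g => (θ : G ⧸ N → ℂ) (g : G ⧸ N),
    isIrrCharacter_comp_surjective θ.2 (QuotientGroup.mk' N) (QuotientGroup.mk'_surjective N)⟩

theorem DegBelow.not_dvd {p : ℕ} {G : Type u} [Group G] [Finite G] (h : DegBelow p G)
    (χ : IrrCharacter G) : ¬ p ∣ charDegree (χ : G → ℂ) := fun hd => by
  have h1 := h χ
  have h2 := Nat.le_of_dvd (charDegree_spec' χ.2).2 hd
  omega

theorem isPSolvable_of_not_dvd {p : ℕ} {G : Type u} [Group G] [Finite G] (hp : p.Prime)
    (h : ¬ p ∣ Nat.card G) : IsPSolvable p G := by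
  refine ⟨1, ![⊥, ⊤], rfl, rfl, ?_, ?_, fun i => Or.inr ?_⟩
  · refine Fin.monotone_iff_le_succ.mpr fun i => ?_
    fin_cases i; exact bot_le
  · intro i
    fin_cases i
    · exact inferInstanceAs (⊥ : Subgroup G).Normal
    · exact inferInstanceAs (⊤ : Subgroup G).Normal
  · fin_cases i
    show ((⊥ : Subgroup G).relIndex ⊤).Coprime p
    rw [Subgroup.relIndex_top_right, Subgroup.index_bot]
    exact (hp.coprime_iff_not_dvd.2 h).symm

theorem isPSolvable_of_normal_sylow {p : ℕ} {G : Type u} [Group G] [Finite G] [Fact p.Prime]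
    {P : Subgroup G} [P.Normal] (hP : IsPGroup p P) (hi : ¬ p ∣ P.index) : IsPSolvable p G := by
  refine CfsgLib.PLocal.isPSolvable_of_ker (QuotientGroup.mk' P) (QuotientGroup.mk'_surjective P)
    (Or.inl ?_) (isPSolvable_of_not_dvd Fact.out ?_)
  · rw [QuotientGroup.ker_mk']; exact IsPGroup.iff_card.1 hP
  · exact hi

section Counting

variable {G : Type u} [Group G] [Fintype G]

/-- The values on an abelian subgroup. -/
theorem sum_normSq_abelian (P : Subgroup G) [Fintype P]
    (hab : ∀ a b : P, a * b = b * a) (χ : IrrCharacter G) :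
    (Nat.card P : ℝ) * charDegree (χ : G → ℂ) ≤ ∑ x : P, Complex.normSq ((χ : G → ℂ) x) := by
  classical
  have hcl : IsCharacter P (fun n : P => (χ : G → ℂ) n) :=
    isCharacter_restrict (isCharacter_of_irr χ.2) P
  set r : P → ℂ := fun n => (χ : G → ℂ) n with hr
  choose m hm using fun ψ : IrrCharacter P => classInner_char_nat hcl (isCharacter_of_irr ψ.2)
  have hrc : IsClassFunction P r := isClassFunction_char hcl
  have h1 := congrFun (eq_sum_irr hrc) 1
  simp only [Finset.sum_apply, Pi.smul_apply, smul_eq_mul, hm,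
    fun ψ : IrrCharacter P => degree_one_of_commutative hab ψ.2, mul_one] at h1
  rw [hr] at h1
  simp only [Subgroup.coe_one, ← irr_charDegree_cast] at h1
  have hd : charDegree (χ : G → ℂ) = ∑ ψ : IrrCharacter P, m ψ := by exact_mod_cast h1
  have h2 : classInner r r = ((∑ ψ : IrrCharacter P, m ψ ^ 2 : ℕ) : ℂ) := by
    rw [classInner_eq_sum_irr hrc]
    push_cast
    refine Finset.sum_congr rfl fun ψ _ => ?_
    rw [← classInner_comm r, hm, Complex.conj_natCast, sq]
  rw [classInner, inv_mul_eq_iff_eq_mul₀ (Nat.cast_ne_zero.2 Nat.card_pos.ne')] at h2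
  simp only [Complex.mul_conj] at h2
  have h3 : ∑ x : P, Complex.normSq (r x) =
      (Nat.card P : ℝ) * ((∑ ψ : IrrCharacter P, m ψ ^ 2 : ℕ) : ℝ) := by exact_mod_cast h2
  rw [h3]
  refine mul_le_mul_of_nonneg_left ?_ (Nat.cast_nonneg _)
  rw [hd, Nat.cast_le]
  exact Finset.sum_le_sum fun ψ _ => Nat.le_self_pow two_ne_zero _

theorem sum_degree_sq : ∑ χ : IrrCharacter G, (charDegree (χ : G → ℂ) : ℝ) ^ 2 = Nat.card G := by
  classical
  have h := sum_irr_mul_conj (1 : G) 1
  rw [if_pos (IsConj.refl 1)] at h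
  simp only [Complex.mul_conj, show Subgroup.centralizer ({1} : Set G) = ⊤ from
    eq_top_iff.2 fun x _ => by simp [Subgroup.mem_centralizer_singleton_iff], Subgroup.card_top,
    ← irr_charDegree_cast, Complex.normSq_natCast, ← sq] at h
  exact_mod_cast h

theorem sum_normSq_centralizer (g : G) :
    ∑ χ : IrrCharacter G, Complex.normSq ((χ : G → ℂ) g) =
      (Nat.card (Subgroup.centralizer ({g} : Set G)) : ℝ) := by
  classical
  have h := sum_irr_mul_conj g g
  rw [if_pos (IsConj.refl g)] at h
  simp only [Complex.mul_conj] at h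
  exact_mod_cast h

/-- The inequality from an abelian subgroup with small centralisers. -/
theorem counting (P : Subgroup G) [Fintype P] (hab : ∀ a b : P, a * b = b * a) {p c : ℕ}
    (hdeg : DegBelow p G) (hc : ∀ x : P, x ≠ 1 →
      Nat.card (Subgroup.centralizer ({(x : G)} : Set G)) ≤ c) :
    ((Nat.card P : ℝ) - ((p : ℝ) - 1)) * Nat.card G ≤
      ((p : ℝ) - 1) * (((Nat.card P : ℝ) - 1) * c) := by
  classical
  set q : ℝ := (Nat.card P : ℝ) with hq
  set S := ∑ χ : IrrCharacter G, (charDegree (χ : G → ℂ) : ℝ) with hS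
  have h1 : q * S ≤ (Nat.card G : ℝ) + (q - 1) * c := by
    calc q * S ≤ ∑ χ : IrrCharacter G, ∑ x : P, Complex.normSq ((χ : G → ℂ) x) := by
          rw [hS, Finset.mul_sum]
          exact Finset.sum_le_sum fun χ _ => sum_normSq_abelian P hab χ
      _ = ∑ x : P, (Nat.card (Subgroup.centralizer ({(x : G)} : Set G)) : ℝ) := by
          rw [Finset.sum_comm]
          exact Finset.sum_congr rfl fun x _ => sum_normSq_centralizer _
      _ ≤ (Nat.card G : ℝ) + (q - 1) * c := by
          rw [← Finset.add_sum_erase _ _ (Finset.mem_univ (1 : P))]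
          refine add_le_add ?_ ((Finset.sum_le_card_nsmul _ _ (c : ℝ) fun x hx => ?_).trans ?_)
          · exact_mod_cast Subgroup.card_le_card_group _
          · exact_mod_cast hc x (Finset.ne_of_mem_erase hx)
          · rw [Finset.card_erase_of_mem (Finset.mem_univ _), Finset.card_univ, nsmul_eq_mul,
              Nat.cast_sub Fintype.card_pos, hq, Nat.card_eq_fintype_card, Nat.cast_one]
  have h2 : (Nat.card G : ℝ) ≤ ((p : ℝ) - 1) * S := by
    rw [← sum_degree_sq, hS, Finset.mul_sum]
    refine Finset.sum_le_sum fun χ _ => ?_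
    rw [sq]
    refine mul_le_mul_of_nonneg_right ?_ (Nat.cast_nonneg _)
    have := hdeg χ
    have : (charDegree (χ : G → ℂ) : ℝ) + 1 ≤ p := by exact_mod_cast this
    linarith
  have hq0 : 0 ≤ q := Nat.cast_nonneg _
  have hp1 : 0 ≤ (p : ℝ) - 1 := by
    have : (1 : ℕ) ≤ p := by have := hdeg (oneIrr G); omega
    have : (1 : ℝ) ≤ p := by exact_mod_cast this
    linarith
  nlinarith [mul_le_mul_of_nonneg_left h1 hp1, mul_le_mul_of_nonneg_left h2 hq0]

end Counting

/-- No non-abelian simple group, in which the proper subgroups have normal abelian Sylow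
`p`-subgroups, has all degrees below `p`. -/
theorem false_of_simple {p : ℕ} [hpf : Fact p.Prime] {G : Type u} [Group G] [Fintype G]
    [IsSimpleGroup G] (hna : ∃ a b : G, a * b ≠ b * a) (hdiv : p ∣ Nat.card G)
    (hdeg : DegBelow p G) (hab : ∀ P : Sylow p G, ∀ a b : (P : Subgroup G), a * b = b * a)
    (hsub : ∀ H : Subgroup G, H ≠ ⊤ → ∀ P : Sylow p H, (P : Subgroup H).Normal) : False := by
  classical
  have hp : p.Prime := hpf.out
  have hdle : ∀ χ : IrrCharacter G, χ ≠ oneIrr G →
      2 ≤ charDegree (χ : G → ℂ) ∧ charDegree (χ : G → ℂ) + 1 ≤ p := fun χ hχ =>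
    ⟨two_le_charDegree hna hχ, hdeg χ⟩
  obtain ⟨P⟩ : Nonempty (Sylow p G) := inferInstance
  haveI : Fintype (P : Subgroup G) := Fintype.ofFinite _
  have hPne : (P : Subgroup G) ≠ ⊥ := P.ne_bot_of_dvd_card hdiv
  have hcen : ∀ x : (P : Subgroup G), x ≠ 1 → Subgroup.centralizer ({(x : G)} : Set G) ≤
      Subgroup.normalizer ((P : Subgroup G) : Set G) := by
    intro x hx
    have hPK : (P : Subgroup G) ≤ Subgroup.centralizer ({(x : G)} : Set G) := fun y hy =>
      Subgroup.mem_centralizer_singleton_iff.2 (congrArg Subtype.val (hab P ⟨y, hy⟩ x))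
    have hKtop : Subgroup.centralizer ({(x : G)} : Set G) ≠ ⊤ := by
      intro h
      have hz : (x : G) ∈ Subgroup.center G := Subgroup.mem_center_iff.2 fun g =>
        Subgroup.mem_centralizer_singleton_iff.1
          (h ▸ Subgroup.mem_top g : g ∈ Subgroup.centralizer ({(x : G)} : Set G))
      rcases Subgroup.Normal.eq_bot_or_eq_top (inferInstance : (Subgroup.center G).Normal) with e | e
      · exact hx (Subtype.ext (Subgroup.mem_bot.1 (e ▸ hz)))
      · obtain ⟨a, b, hab'⟩ := hna
        exact hab' (Subgroup.mem_center_iff.1 (e ▸ Subgroup.mem_top b : b ∈ Subgroup.center G) a)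
    have hn := hsub _ hKtop (P.subtype hPK)
    rw [← Subgroup.normalizer_eq_top_iff, Sylow.coe_subtype, ← Subgroup.subgroupOf_normalizer_eq hPK,
      Subgroup.subgroupOf_eq_top] at hn
    exact hn
  obtain ⟨a, ha⟩ := P.2.exists_card_eq
  have ha0 : a ≠ 0 := by
    rintro rfl
    exact hPne (Subgroup.card_eq_one.1 (by simpa using ha))
  set N := Subgroup.normalizer ((P : Subgroup G) : Set G) with hN
  have hn1 : Nat.card (Sylow p G) ≠ 1 := by
    intro h
    haveI : Subsingleton (Sylow p G) := (Nat.card_eq_one_iff_unique.mp h).1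
    haveI := Sylow.characteristic_of_subsingleton P
    rcases Subgroup.Normal.eq_bot_or_eq_top (inferInstance : (P : Subgroup G).Normal) with e | e
    · exact hPne e
    · obtain ⟨c, d, hcd⟩ := hna
      exact hcd (congrArg Subtype.val (hab P ⟨c, e ▸ Subgroup.mem_top c⟩ ⟨d, e ▸ Subgroup.mem_top d⟩))
  have hnp : p + 1 ≤ Nat.card (Sylow p G) := by
    have h := card_sylow_modEq_one p G
    rw [Nat.ModEq, Nat.mod_eq_of_lt hp.one_lt] at h
    have h0 : Nat.card (Sylow p G) ≠ 0 := Nat.card_pos.ne'
    by_contra hlt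
    push Not at hlt
    rcases Nat.lt_or_ge (Nat.card (Sylow p G)) p with h2 | h2
    · rw [Nat.mod_eq_of_lt h2] at h; omega
    · rw [show Nat.card (Sylow p G) = p by omega, Nat.mod_self] at h; omega
  rcases Nat.lt_or_ge a 2 with ha2 | ha2
  · -- Sylow subgroup of order `p`
    obtain rfl : a = 1 := by omega
    obtain ⟨m, hm⟩ := hdiv
    have hpm : ¬ p ∣ m := fun h => by
      have h2 := P.pow_dvd_card_of_pow_dvd_card (n := 2)
        (by rw [hm, sq]; exact Nat.mul_dvd_mul_left p h)
      rw [ha, pow_one] at h2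
      have := Nat.le_of_dvd hp.pos h2
      have := hp.two_le
      nlinarith
    have hm1 : 1 < m := by
      rcases Nat.lt_or_ge 1 m with h | h
      · exact h
      · exfalso
        have : m ≠ 0 := fun h0 => hpm (h0 ▸ dvd_zero p)
        have hm1 : m = 1 := by omega
        have htop : (P : Subgroup G) = ⊤ := Subgroup.eq_top_of_card_eq _ (by
          rw [hm, hm1, mul_one, ha, pow_one])
        obtain ⟨c, d, hcd⟩ := hna
        exact hcd (congrArg Subtype.val
          (hab P ⟨c, htop ▸ Subgroup.mem_top c⟩ ⟨d, htop ▸ Subgroup.mem_top d⟩))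
    have hodd : p ≠ 2 := by
      rintro rfl
      obtain ⟨c, d, hcd⟩ := hna
      refine hcd ((commutative_iff_degree_one (G := G)).2 (fun χ => ?_) c d)
      have h1 := hdeg χ
      have h2 := (charDegree_spec' χ.2).2
      rw [(charDegree_spec' χ.2).1, show charDegree (χ : G → ℂ) = 1 by omega, Nat.cast_one]
    obtain ⟨M, Q, n, e, S, hM, hQ, -, -, -, hep, he2, hC, -, -, hNC⟩ := exists_data hodd hm hpm hm1
    have hne : ∀ χ, χ ∈ S.X ∨ χ ∈ S.Y → χ ≠ oneIrr G := by
      rintro χ h rfl
      exact h.elim S.one_notX S.one_notY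
    have hXd : ∀ χ ∈ S.X, S.δ χ = -1 ∧ charDegree (χ : G → ℂ) + 1 = p := by
      intro χ hχ
      obtain ⟨h1, h2⟩ := hdle χ (hne χ (Or.inl hχ))
      have h := S.degX χ hχ
      rcases S.sign χ hχ with hs | hs <;> rw [hs] at h
      · exfalso
        have := Int.le_of_dvd (by omega) (by simpa using h : (p : ℤ) ∣ (charDegree (χ : G → ℂ) : ℤ) - 1)
        omega
      · refine ⟨hs, ?_⟩
        have h' : (p : ℤ) ∣ (charDegree (χ : G → ℂ) : ℤ) + 1 := dvd_of_eq_neg h (by ring)
        have := Int.le_of_dvd (by omega) h'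
        omega
    obtain ⟨ψ, hψ⟩ : S.Y.Nonempty := Finset.card_pos.1 (S.cardY ▸ S.cardY_pos)
    have hrel := S.degree_relation hp hψ
    rw [Finset.sum_congr rfl fun χ hχ => show S.δ χ * (charDegree (χ : G → ℂ) : ℤ) = -((p : ℤ) - 1) by
      obtain ⟨h1, h2⟩ := hXd χ hχ
      rw [h1, ← h2]; push_cast; ring, Finset.sum_const, S.cardX, nsmul_eq_mul] at hrel
    obtain ⟨hb1, hb2⟩ := hdle ψ (hne ψ (Or.inr hψ))
    have hp3 : 3 ≤ p := by have := hp.two_le; omega
    have hb : e = 2 ∧ charDegree (ψ : G → ℂ) + 2 = p := by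
      have he1 : ((e - 1 : ℕ) : ℤ) = (e : ℤ) - 1 := by omega
      rw [he1] at hrel
      have h3 : e = 2 := by
        by_contra h3
        have hmul : 2 * ((p : ℤ) - 1) ≤ ((e : ℤ) - 1) * ((p : ℤ) - 1) := by
          gcongr
          · omega
          · omega
        rcases S.signY with hs | hs <;> rw [hs] at hrel <;> nlinarith
      subst h3
      rcases S.signY with hs | hs <;> rw [hs] at hrel <;> omega
    obtain ⟨rfl, hb⟩ := hb
    have hC1 : Nat.card (Subgroup.centralizer ((Q : Subgroup G) : Set G)) = p := by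
      have hQC : (Q : Subgroup G) ≤ Subgroup.centralizer ((Q : Subgroup G) : Set G) := by
        haveI : IsCyclic (Q : Subgroup G) := isCyclic_of_prime_card hQ
        exact (Q : Subgroup G).le_centralizer
      obtain ⟨c, hc⟩ : p ∣ Nat.card (Subgroup.centralizer ((Q : Subgroup G) : Set G)) := by
        have := Subgroup.card_dvd_of_le hQC
        rwa [show Nat.card (Q : Subgroup G) = p from hQ] at this
      rw [hc]
      by_contra hc1
      have hcne : c ≠ 1 := fun h => hc1 (by rw [h, mul_one])
      obtain ⟨r, hr, hrc⟩ := Nat.exists_prime_and_dvd hcne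
      haveI : Fact r.Prime := ⟨hr⟩
      have hrp : r ≠ p := by
        rintro rfl
        apply hpm
        have h5 : r * c * (n * 2) = r * m := hc ▸ hC
        rw [mul_assoc] at h5
        rw [← Nat.eq_of_mul_eq_mul_left hp.pos h5]
        exact hrc.mul_right _
      obtain ⟨y, hy⟩ := exists_prime_orderOf_dvd_card'
        (G := Subgroup.centralizer ((Q : Subgroup G) : Set G)) r (hc ▸ hrc.mul_left p)
      have hyo : orderOf (y : G) = r := by rw [Subgroup.orderOf_coe, hy]
      have h2p := Shape.two_p_le (p := p) hna hQ y.2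
        (fun h => by rw [h, orderOf_one] at hyo; exact hr.one_lt.ne hyo)
        (by rw [hyo]; exact fun h => hrp ((Nat.prime_dvd_prime_iff_eq hp hr).1 h).symm) S (Or.inr hψ)
      omega
    have hval : (Nat.card G).factorization p = 1 := by
      have hm0 : m ≠ 0 := by omega
      rw [hm, Nat.factorization_mul hp.ne_zero hm0, Finsupp.add_apply, hp.factorization_self,
        Nat.factorization_eq_zero_of_not_dvd hpm]
    -- every character lies in the principal block
    have hall : ∀ χ : IrrCharacter G, χ = oneIrr G ∨ χ ∈ S.X ∨ χ ∈ S.Y := by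
      intro χ
      rw [← S.block]
      by_contra hb'
      letI : Fintype (Q : Subgroup G) := Fintype.ofFinite _
      obtain ⟨k, hk'⟩ := classInner_char_nat
        (isCharacter_restrict (isCharacter_of_irr χ.2) (Q : Subgroup G))
        (isCharacter_of_irr (isIrrCharacter_one : IsIrrCharacter (Q : Subgroup G) fun _ => 1))
      rw [classInner, Finset.sum_eq_single (1 : (Q : Subgroup G)) (fun x _ hx => by
          rw [vanish_outside hM hQ hC1 hval hb' x.2
            (fun e => hx (Subtype.ext e)), zero_mul]) (fun h0 => absurd (Finset.mem_univ _) h0),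
        map_one, mul_one, show Nat.card (Q : Subgroup G) = p from hQ, Subgroup.coe_one,
        inv_mul_eq_iff_eq_mul₀ (Nat.cast_ne_zero.2 hp.ne_zero), ← irr_charDegree_cast χ] at hk'
      have hk2 : charDegree (χ : G → ℂ) = p * k := by exact_mod_cast hk'
      exact hdeg.not_dvd χ (hk2 ▸ dvd_mul_right p k)
    have hsum : (Nat.card G : ℝ) =
        1 + ((p : ℝ) - 1) ^ 2 + (((p - 1) / 2 : ℕ) : ℝ) * ((p : ℝ) - 2) ^ 2 := by
      rw [← sum_degree_sq, show (Finset.univ : Finset (IrrCharacter G)) =
        insert (oneIrr G) (S.X ∪ S.Y) by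
          refine (Finset.eq_univ_of_forall fun χ => ?_).symm
          rcases hall χ with h | h | h <;> simp [h]]
      rw [Finset.sum_insert (by simp [S.one_notX, S.one_notY]), Finset.sum_union S.disj,
        Finset.sum_congr (s₁ := S.X) rfl fun χ hχ =>
          show (charDegree (χ : G → ℂ) : ℝ) ^ 2 = ((p : ℝ) - 1) ^ 2 by
            rw [← (hXd χ hχ).2]; push_cast; ring,
        Finset.sum_congr (s₁ := S.Y) rfl fun χ hχ =>
          show (charDegree (χ : G → ℂ) : ℝ) ^ 2 = ((p : ℝ) - 2) ^ 2 by
            rw [S.charDegree_eq hp hχ hψ, ← hb]; push_cast; ring,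
        Finset.sum_const, Finset.sum_const, S.cardX, S.cardY]
      have h1 : charDegree ((oneIrr G : IrrCharacter G) : G → ℂ) = 1 := by
        have := irr_charDegree_cast (oneIrr G)
        rw [show ((oneIrr G : IrrCharacter G) : G → ℂ) 1 = 1 from rfl] at this
        exact_mod_cast this
      rw [h1]; simp; ring
    -- `p - 1` divides the order
    obtain ⟨χ, hχ⟩ : S.X.Nonempty := Finset.card_pos.1 (by rw [S.cardX]; norm_num)
    have hdvd : p - 1 ∣ Nat.card G := by
      have h := charDegree_dvd_card χ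
      rwa [show charDegree (χ : G → ℂ) = p - 1 by have := (hXd χ hχ).2; omega] at h
    obtain ⟨s, hs⟩ : 2 ∣ p - 1 := by
      rcases hp.eq_two_or_odd with h | h
      · exact absurd h hodd
      · exact Nat.dvd_of_mod_eq_zero (by omega)
    rw [show (p - 1) / 2 = s by omega, show (p : ℝ) = 2 * (s : ℝ) + 1 by
      have : (p : ℝ) = ((2 * s + 1 : ℕ) : ℝ) := by rw [show 2 * s + 1 = p by omega]
      rw [this]; push_cast; ring] at hsum
    have hcard : ((Nat.card G : ℤ)) = 1 + (2 * (s : ℤ)) ^ 2 + (s : ℤ) * (2 * (s : ℤ) - 1) ^ 2 := by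
      have : (((Nat.card G : ℤ)) : ℝ) =
          ((1 + (2 * (s : ℤ)) ^ 2 + (s : ℤ) * (2 * (s : ℤ) - 1) ^ 2 : ℤ) : ℝ) := by
        push_cast; rw [hsum]; ring
      exact_mod_cast this
    obtain ⟨k, hk⟩ := hdvd
    rw [hs] at hk
    have hsd : (s : ℤ) ∣ 1 :=
      ⟨2 * (k : ℤ) - 4 * (s : ℤ) - (2 * (s : ℤ) - 1) ^ 2, by
        rw [hk] at hcard
        push_cast at hcard
        linarith [hcard]⟩
    have := Int.le_of_dvd one_pos hsd
    omega
  · -- larger Sylow subgroups
    set q := Nat.card (P : Subgroup G) with hq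
    have hbound := counting (P : Subgroup G) (hab P) hdeg (c := Nat.card N) fun x hx =>
      Nat.le_of_dvd Nat.card_pos (Subgroup.card_dvd_of_le (hcen x hx))
    rw [← SmallOrder.card_normalizer_mul_card_sylow P, ← hq, Nat.cast_mul,
      show Nat.card (Subgroup.normalizer (P : Set G)) = Nat.card N from rfl] at hbound
    have hqp : (p : ℝ) ^ 2 ≤ (q : ℝ) := by
      rw [ha]
      exact_mod_cast Nat.pow_le_pow_right hp.pos ha2
    have hN0 : (0 : ℝ) < Nat.card N := by exact_mod_cast Nat.card_pos
    have hn' : (p : ℝ) + 1 ≤ (Nat.card (Sylow p G) : ℝ) := by exact_mod_cast hnp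
    have hp2 : (2 : ℝ) ≤ p := by exact_mod_cast hp.two_le
    have hpos : 0 ≤ (q : ℝ) - ((p : ℝ) - 1) := by nlinarith
    have h1 : ((q : ℝ) - ((p : ℝ) - 1)) * ((p : ℝ) + 1) * Nat.card N ≤
        ((p : ℝ) - 1) * ((q : ℝ) - 1) * Nat.card N := by
      nlinarith [mul_le_mul_of_nonneg_left hn' (mul_nonneg hpos hN0.le)]
    have h2 := le_of_mul_le_mul_right h1 hN0
    nlinarith [mul_nonneg (mul_nonneg (by linarith : (0:ℝ) ≤ (p:ℝ) - 2) (by linarith : (0:ℝ) ≤ (p:ℝ))) (sub_nonneg.2 hqp)]

/-- A group with all degrees below `p` has a normal abelian Sylow `p`-subgroup. -/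
theorem main {p : ℕ} (hp : p.Prime) : ∀ (n : ℕ) {G : Type u} [Group G] [Finite G],
    Nat.card G ≤ n → DegBelow p G →
    ∃ P : Subgroup G, P.Normal ∧ (∀ x ∈ P, ∀ y ∈ P, x * y = y * x) ∧ IsPGroup p P ∧
      ¬ p ∣ P.index := by
  intro n
  induction n with
  | zero => intro G _ _ h; exact absurd h (by have := Nat.card_pos (α := G); omega)
  | succ n ih =>
    intro G _ _ hle hdeg
    classical
    haveI := Fact.mk hp
    haveI := Fintype.ofFinite G
    suffices hps : IsPSolvable p G from
      ito_pSolvable hp _ le_rfl hps fun χ => hdeg.not_dvd χ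
    by_cases hpG : p ∣ Nat.card G
    swap
    · exact isPSolvable_of_not_dvd hp hpG
    by_cases hna : ∀ a b : G, a * b = b * a
    · exact CfsgLib.PLocal.isPSolvable_of_isSolvable _ G rfl (Group.isSolvable_of_comm hna)
    push Not at hna
    have hlt : ∀ H : Subgroup G, H ≠ ⊤ → Nat.card H ≤ n := fun H hH => by
      have h1 : Nat.card H < Nat.card G :=
        lt_of_le_of_ne (Subgroup.card_le_card_group H) fun he => hH (Subgroup.eq_top_of_card_eq H he)
      omega
    by_cases hsimple : ∃ N : Subgroup G, N.Normal ∧ N ≠ ⊥ ∧ N ≠ ⊤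
    · obtain ⟨N, hN, hNb, hNt⟩ := hsimple
      haveI := hN
      obtain ⟨Q, hQn, -, hQp, hQi⟩ := ih (hlt N hNt) (hdeg.subgroup N)
      have key : ∀ K : Subgroup G, K.Normal → K ≠ ⊥ →
          ((∃ k, Nat.card K = p ^ k) ∨ (Nat.card K).Coprime p) → IsPSolvable p G := by
        intro K hK hKb hKc
        haveI := hK
        have hqlt : Nat.card (G ⧸ K) ≤ n := by
          have h1 : 1 < Nat.card K := (Subgroup.one_lt_card_iff_ne_bot K).mpr hKb
          have h2 := K.card_eq_card_quotient_mul_card_subgroup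
          have h3 : 0 < Nat.card (G ⧸ K) := Nat.card_pos
          have h4 : Nat.card (G ⧸ K) * 2 ≤ Nat.card (G ⧸ K) * Nat.card K := Nat.mul_le_mul_left _ h1
          omega
        obtain ⟨R, hRn, -, hRp, hRi⟩ := ih hqlt (hdeg.quotient K)
        haveI := hRn
        refine CfsgLib.PLocal.isPSolvable_of_ker (QuotientGroup.mk' K) (QuotientGroup.mk'_surjective K)
          ?_ (isPSolvable_of_normal_sylow hRp hRi)
        rwa [QuotientGroup.ker_mk']
      by_cases hQb : Q = ⊥
      · subst hQb
        refine key N hN hNb (Or.inr ?_)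
        rw [Subgroup.index_bot] at hQi
        exact (hp.coprime_iff_not_dvd.2 hQi).symm
      · haveI := hQn
        haveI : Q.Characteristic := by
          have h := Sylow.characteristic_of_normal (hQp.toSylow hQi) (by simpa using hQn)
          simpa using h
        refine key (Q.map N.subtype) ConjAct.normal_of_characteristic_of_normal ?_
          (Or.inl (IsPGroup.iff_card.1 (hQp.map _)))
        rw [Ne, Subgroup.map_eq_bot_iff_of_injective _ N.subtype_injective]
        exact hQb
    · exfalso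
      push Not at hsimple
      haveI : Nontrivial G := by
        obtain ⟨a, b, hab⟩ := hna
        exact nontrivial_of_ne _ _ hab
      haveI : IsSimpleGroup G := ⟨fun H hH => or_iff_not_imp_left.2 (hsimple H hH)⟩
      refine false_of_simple hna hpG hdeg (fun P a b => Subtype.ext ?_) fun H hH P => ?_
      · by_cases hPt : (P : Subgroup G) = ⊤
        · rcases Subgroup.Normal.eq_bot_or_eq_top (inferInstance : (Subgroup.center G).Normal) with e | e
          · haveI : Nontrivial (Subgroup.center G) :=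
              IsPGroup.center_nontrivial ((hPt ▸ P.2 : IsPGroup p (⊤ : Subgroup G)).of_equiv Subgroup.topEquiv)
            exact absurd e ((Subgroup.nontrivial_iff_ne_bot _).1 inferInstance)
          · exact (Subgroup.mem_center_iff.1 (e ▸ Subgroup.mem_top (b : G)) (a : G))
        · obtain ⟨R, hRn, hRab, hRp, hRi⟩ := ih (hlt _ hPt) (hdeg.subgroup (P : Subgroup G))
          have hR : R = ⊤ := by
            obtain ⟨k, hk⟩ := IsPGroup.iff_card.1 P.2
            obtain ⟨j, -, hj⟩ := (Nat.dvd_prime_pow hp).1 (hk ▸ R.index_dvd_card)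
            rcases j with _ | j
            · exact Subgroup.index_eq_one.1 (by simpa using hj)
            · exact absurd (hj ▸ dvd_pow_self p (Nat.succ_ne_zero j)) hRi
          exact congrArg Subtype.val
            (hRab a (hR ▸ Subgroup.mem_top a) b (hR ▸ Subgroup.mem_top b))
      · obtain ⟨R, hRn, -, hRp, hRi⟩ := ih (hlt H hH) (hdeg.subgroup H)
        obtain ⟨g, hg⟩ := MulAction.exists_smul_eq H (hRp.toSylow hRi) P
        have e : (P : Subgroup H) = R := by
          rw [← hg, Sylow.coe_subgroup_smul, IsPGroup.toSylow_coe]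
          exact Subgroup.Normal.conjAct hRn g
        rw [e]; exact hRn

end CfsgLib.SmallDegrees
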